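import Groth.Prelude.Def_Neron
import Groth.Agent.PnCoh.Chow.Proper
import Mathlib.AlgebraicGeometry.Morphisms.UniversallyOpen
import Mathlib.AlgebraicGeometry.Morphisms.Flat
import Mathlib.Topology.KrullDimension
import Mathlib.RingTheory.DedekindDomain.Basic

set_option autoImplicit false
set_option backward.isDefEq.respectTransparency false
universe u
open CategoryTheory CategoryTheory.Limits AlgebraicGeometry TopologicalSpace

namespace Groth.Agent.FibredSurfDim

theorem no_chain {T : Type u} [TopologicalSpace T] (hdim : topologicalKrullDim T ≤ 2)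
    {A B C D : Set T} (hA : IsClosed A) (hA' : IsIrreducible A) (hB : IsClosed B) (hB' : IsIrreducible B)
    (hC : IsClosed C) (hC' : IsIrreducible C) (hD : IsClosed D) (hD' : IsIrreducible D)
    (h1 : A ⊂ B) (h2 : B ⊂ C) (h3 : C ⊂ D) : False := by
  let s : LTSeries (IrreducibleCloseds T) :=
    ⟨3, ![⟨A, hA', hA⟩, ⟨B, hB', hB⟩, ⟨C, hC', hC⟩, ⟨D, hD', hD⟩], by
      intro i; fin_cases i
      · exact h1
      · exact h2
      · exact h3⟩
  have h := le_trans (Order.LTSeries.length_le_krullDim s) hdim
  exact absurd (show (3 : WithBot ℕ∞) ≤ 2 from h) (by decide)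

theorem main {R : Type u} [CommRing R] [IsDedekindDomain R]
    (hR : ¬ IsField R) (X : Over (Spec (CommRingCat.of R))) [IsIntegral X.left]
    (hdim : topologicalKrullDim X.left = 2) [Flat X.hom] (hproj : Neron.IsProjectiveOver R X)
    (D : Set X.left) (hD : IsClosed D) (hirr : IsIrreducible D) (hD1 : topologicalKrullDim D = 1) :
    (∃ s : (Spec (CommRingCat.of R) : Scheme.{u}), s.asIdeal.IsMaximal ∧ D ⊆ X.hom.base ⁻¹' {s} ∧
        ∀ D' : Set X.left, IsIrreducible D' → D' ⊆ X.hom.base ⁻¹' {s} → D ⊆ D' → D' = D) ∨
      (∃ x : X.left, (X.hom.base x).asIdeal = ⊥ ∧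
        (∀ z : X.left, (X.hom.base z).asIdeal = ⊥ → x ⤳ z → z = x) ∧ D = closure {x}) := by
  haveI : IsProper X.hom := by
    obtain ⟨n, i, hi, e⟩ := hproj
    haveI : IsProper (CohB1.ProjSpace.toSpec n (ULift.{u} ℤ)) := PnCoh.Chow.isProper_toSpec n _
    haveI : IsProper (CohB1.ProjSpaceOver.toBase n (Spec (CommRingCat.of R))) :=
      MorphismProperty.pullback_snd _ _ inferInstance
    rw [← e]; infer_instance
  obtain ⟨x, hx⟩ := QuasiSober.sober hirr hD
  have hx' : D = closure {x} := hx.symm
  set f := X.hom with hf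
  let η : ↥(Spec (CommRingCat.of R)) := (⟨⊥, Ideal.isPrime_bot⟩ : PrimeSpectrum R)
  have hη : ∀ s : ↥(Spec (CommRingCat.of R)), η ⤳ s := fun s =>
    (PrimeSpectrum.le_iff_specializes η s).1 bot_le
  have hne : D ≠ Set.univ := fun h => by
    subst h
    have := (Homeomorph.Set.univ X.left).isHomeomorph.topologicalKrullDim_eq _
    rw [hdim, hD1] at this
    exact absurd this (by decide)
  have hDX : D ⊂ Set.univ := (Set.subset_univ D).ssubset_of_ne hne
  have hi : ∀ z : X.left, IsIrreducible (closure ({z} : Set X.left)) := fun z => isIrreducible_singleton.closure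
  have hU : IsIrreducible (Set.univ : Set X.left) := IrreducibleSpace.isIrreducible_univ _
  by_cases hs : (f.base x).asIdeal = ⊥
  · refine .inr ⟨x, hs, fun z hz hxz => ?_, hx'⟩
    by_contra hne'
    have h2 : closure ({z} : Set X.left) ⊂ D := by
      rw [hx']
      refine ((isClosed_closure.closure_subset_iff).2 (Set.singleton_subset_iff.2 hxz.mem_closure)).ssubset_of_ne ?_
      intro h
      exact hne' ((specializes_iff_mem_closure.2 (h ▸ subset_closure rfl)).antisymm hxz).eq
    have hz' : f.base z = η := PrimeSpectrum.ext hz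
    obtain ⟨m, hm⟩ := Ideal.exists_maximal R
    let s : ↥(Spec (CommRingCat.of R)) := (⟨m, hm.isPrime⟩ : PrimeSpectrum R)
    have hcl : IsClosed (f.base '' closure {z}) := f.isClosedMap _ isClosed_closure
    have hs' : s ∈ f.base '' closure {z} := by
      have h1 : closure ({η} : Set _) ⊆ f.base '' closure {z} :=
        hcl.closure_subset_iff.2 (Set.singleton_subset_iff.2 ⟨z, subset_closure rfl, hz'⟩)
      exact h1 (hη s).mem_closure
    obtain ⟨w, hw, hws⟩ := hs'
    have hwz : closure ({w} : Set X.left) ⊂ closure {z} := by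
      refine ((isClosed_closure.closure_subset_iff).2 (Set.singleton_subset_iff.2 hw)).ssubset_of_ne ?_
      intro h
      have h' : w = z := ((specializes_iff_mem_closure.2 (h ▸ subset_closure rfl)).antisymm
        (specializes_iff_mem_closure.2 hw)).eq
      subst h'
      have : m = ⊥ := congrArg PrimeSpectrum.asIdeal (hws.symm.trans hz')
      exact hR (Ring.isField_iff_maximal_bot.2 (this ▸ hm))
    exact no_chain hdim.le isClosed_closure (hi w) isClosed_closure (hi z) hD hirr isClosed_univ hU hwz h2 hDX
  · have hmax : (f.base x).asIdeal.IsMaximal := (f.base x).2.isMaximal hs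
    have hcl : IsClosed ({f.base x} : Set _) := (PrimeSpectrum.isClosed_singleton_iff_isMaximal _).2 hmax
    have hsub : D ⊆ f.base ⁻¹' {f.base x} := by
      rw [hx']
      exact ((hcl.preimage f.continuous).closure_subset_iff).2 (Set.singleton_subset_iff.2 rfl)
    refine .inl ⟨f.base x, hmax, hsub, fun D' hD' hD's hDD' => ?_⟩
    by_contra hne'
    have hcl' : closure D' ⊆ f.base ⁻¹' {f.base x} := (hcl.preimage f.continuous).closure_subset_iff.2 hD's
    have h2 : D ⊂ closure D' := by
      refine (hDD'.trans subset_closure).ssubset_of_ne fun h => hne' ?_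
      exact subset_antisymm (h ▸ subset_closure) hDD'
    have h3 : closure D' ⊂ Set.univ := by
      refine (Set.subset_univ _).ssubset_of_ne fun h => ?_
      obtain ⟨x', -, hx'η⟩ := Flat.generalizingMap f (hη (f.base x))
      have := hcl' (h ▸ Set.mem_univ x')
      exact hs (congrArg PrimeSpectrum.asIdeal ((Set.mem_singleton_iff.1 this).symm.trans hx'η))
    obtain ⟨z, hzD, hzx⟩ : ∃ z ∈ D, z ≠ x := by
      by_contra h
      simp only [not_exists, not_and, not_not] at h
      haveI : Subsingleton D := ⟨fun a b => Subtype.ext ((h a a.2).trans (h b b.2).symm)⟩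
      haveI : Subsingleton (IrreducibleCloseds D) := ⟨fun a b => SetLike.ext' ((Set.subsingleton_of_subsingleton.eq_singleton_of_mem
        a.isIrreducible.nonempty.some_mem).trans (by
          rw [Set.subsingleton_of_subsingleton.eq_singleton_of_mem (s := (b : Set D)) b.isIrreducible.nonempty.some_mem,
            Subsingleton.elim a.isIrreducible.nonempty.some b.isIrreducible.nonempty.some]))⟩
      have : topologicalKrullDim D ≤ 0 := Order.krullDim_nonpos_of_subsingleton
      rw [hD1] at this
      exact absurd this (by decide)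
    have h1 : closure ({z} : Set X.left) ⊂ D := by
      refine (hD.closure_subset_iff.2 (Set.singleton_subset_iff.2 hzD)).ssubset_of_ne fun h => hzx ?_
      have hxz : x ⤳ z := specializes_iff_mem_closure.2 (hx' ▸ hzD)
      exact ((specializes_iff_mem_closure.2 (h.symm ▸ (hx' ▸ subset_closure rfl : x ∈ D))).antisymm hxz).eq
    exact no_chain hdim.le isClosed_closure (hi z) hD hirr isClosed_closure hD'.closure isClosed_univ hU h1 h2 h3

end Groth.Agent.FibredSurfDim
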